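import Groth.Agent.FEtCat.Lef.Trace
import Groth.Agent.GrpScheme.PointModules
import Groth.Agent.ParaFormal.Elkik.RankN
import Groth.Agent.ProperFin.Descend
import Groth.Agent.EulerChar.Push

/-!
# Direct images of structure sheaves of finite flat morphisms
-/

set_option autoImplicit false
set_option backward.isDefEq.respectTransparency false
set_option backward.isDefEq.respectTransparency.types false
set_option linter.style.haveILetI false

universe u

open CategoryTheory CategoryTheory.Limits AlgebraicGeometry Opposite TopologicalSpace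

noncomputable section

namespace Groth.Agent.TorsorSq27

open Groth.Agent.FEtCat.Lef in
/-- The direct image of `O` along a finite flat finitely presented morphism is a vector bundle. -/
theorem isFinLocFree_push {X Y : Scheme.{u}} (p : Y ⟶ X) [IsFinite p] [Flat p]
    [LocallyOfFinitePresentation p] : FlatMod.IsFinLocFree (push p) := by
  have : (push p).IsQuasicoherent := QCoh.isQuasicoherent_pushforward p (Coh.structureModule Y)
  have hfp : ∀ {W : X.Opens}, IsAffineOpen W → Module.FinitePresentation Γ(X, W) Γ(push p, W) ∧
      Module.Projective Γ(X, W) Γ(push p, W) := by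
    intro W hW
    have h1 : Module.Finite Γ(X, W) (B p W) := RingHom.finite_algebraMap.mp (IsFinite.finite_app p W hW)
    have h2 : Module.Flat Γ(X, W) (B p W) := RingHom.flat_algebraMap_iff.mp (by
      have := p.flat_appLE hW (hW.preimage p) le_rfl
      rwa [← Scheme.Hom.app_eq_appLE] at this)
    have h3 : Algebra.FinitePresentation Γ(X, W) (B p W) := RingHom.finitePresentation_algebraMap.mp (by
      have := HasRingHomProperty.appLE (P := @LocallyOfFinitePresentation) p inferInstance ⟨W, hW⟩
        ⟨p ⁻¹ᵁ W, hW.preimage p⟩ le_rfl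
      rwa [← Scheme.Hom.app_eq_appLE] at this)
    have h4 : Module.FinitePresentation Γ(X, W) (B p W) := .of_finite_of_finitePresentation _ _
    have h5 : Module.Projective Γ(X, W) (B p W) := Module.Flat.projective_of_finitePresentation
    exact ⟨h4, h5⟩
  refine Props.QProj.isFinLocFree_of (push p) (fun x => ?_) fun x => ?_
  all_goals obtain ⟨_, ⟨W, hW, rfl⟩, hx, -⟩ :=
    X.isBasis_affineOpens.exists_subset_of_mem_open (Set.mem_univ x) isOpen_univ
  · exact ⟨W, hW, hx, (hfp hW).1⟩
  · obtain ⟨_, _⟩ := hfp hW
    exact Props.QProj.free_stalk_of_flat (push p) hW hx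

section Field

variable (K : Type u) [Field K]

local instance overSelf : (Spec (CommRingCat.of K)).Over (Spec (CommRingCat.of K)) := ⟨𝟙 _⟩

/-- A module on the spectrum of a field with `n`-dimensional sections is free of rank `n`. -/
theorem nonempty_iso_freeMod (M : (Spec (CommRingCat.of K)).Modules) {n : ℕ}
    (hfin : Module.Finite K (Coh.HH (Spec (CommRingCat.of K)) M 0))
    (hn : Module.finrank K (Coh.HH (Spec (CommRingCat.of K)) M 0) = n) :
    Nonempty (M ≅ FlatMod.freeMod (Spec (CommRingCat.of K)) n) := by
  have := GrpScheme.PointModules.isIso_fromTildeΓ K M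
  let V := (modulesSpecToSheaf.obj M).presheaf.obj (op ⊤)
  let e : Coh.HH (Spec (CommRingCat.of K)) M 0 ≃ₗ[K] V :=
    { ProperFin.h0Sec M with
      map_smul' := fun c x => by
        refine (ProperFin.h0Sec_smul M _ x).trans ?_
        rfl }
  haveI : Module.Finite K V := Module.Finite.equiv e
  obtain ⟨ψ⟩ := ParaFormal.Elkik.nonempty_tilde_iso_freeMod K n
  exact ⟨(asIso (Scheme.Modules.fromTildeΓ (R := CommRingCat.of K) M)).symm ≪≫
    (tilde.functor _).mapIso (Module.finBasisOfFinrankEq K V (e.finrank_eq.symm.trans hn)).equivFun.toModuleIso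
      ≪≫ ψ⟩

/-- The sections of a finite scheme over a field form a free module of their rank. -/
theorem nonempty_push_iso_freeMod (G : Scheme.{u}) [G.Over (Spec (CommRingCat.of K))]
    [IsFinite (G ↘ Spec (CommRingCat.of K))] {n : ℕ}
    (hfin : Module.Finite K (Coh.HH G (Coh.structureModule G) 0))
    (hn : Module.finrank K (Coh.HH G (Coh.structureModule G) 0) = n) :
    Nonempty ((Scheme.Modules.pushforward (G ↘ Spec (CommRingCat.of K))).obj (Coh.structureModule G) ≅
      FlatMod.freeMod (Spec (CommRingCat.of K)) n) := by
  obtain ⟨e⟩ := EulerChar.nonempty_pushEquiv (G ↘ Spec (CommRingCat.of K)) (A := K)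
    (Category.comp_id _) (Coh.structureModule G) (ProjTwist.isQuasicoherent_structureModule G) 0
  exact nonempty_iso_freeMod K _ (Module.Finite.equiv e.symm) (e.finrank_eq.trans hn)

end Field

end Groth.Agent.TorsorSq27
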